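import Cfsg.Agent.H0.TC
set_option maxRecDepth 100000
namespace H0.TCM233
open H0
noncomputable def r0 : TC.WTr := (.node (.node (.node (.node (.node (.node (.leaf [1] 0 0 false) (.leaf [7] 6 0 false)) (.node (.leaf [4, 2, 1, 7] 34 3 false) (.leaf [7, 5, 6, 8, 5] 21 5 false))) (.node (.node (.leaf [0] 0 1 false) (.leaf [9] 8 0 false)) (.leaf [4] 4 0 false))) (.node (.node (.node (.leaf [1] 0 0 false) (.leaf [7, 7] 11 0 true)) (.leaf [4] 4 0 false)) (.node (.node (.leaf [3] 2 0 false) (.leaf [9] 8 0 false)) (.leaf [5] 5 0 false)))) (.node (.node (.node (.node (.leaf [4, 1, 9, 7] 31 0 false) (.leaf [7] 6 0 false)) (.leaf [5, 2, 9, 3, 0] 36 4 false)) (.node (.node (.leaf [3] 2 0 false) (.leaf [9] 8 0 false)) (.leaf [0, 6, 5, 7, 4, 1] 32 1 false))) (.node (.node (.node (.leaf [7, 3, 4, 2] 34 1 false) (.leaf [5, 7, 5, 7, 5] 18 0 true)) (.leaf [2, 1, 7, 3] 34 4 false)) (.node (.node (.leaf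 [3] 2 0 false) (.leaf [2, 8, 6, 2, 7] 35 2 false)) (.leaf [7] 6 0 false))))) (.node (.node (.node (.node (.node (.leaf [0, 0] 22 0 false) (.leaf [7] 6 0 false)) (.node (.leaf [0, 3, 5, 2, 9] 36 2 false) (.leaf [8] 8 1 false))) (.node (.node (.leaf [0] 0 1 false) (.leaf [4, 6, 4] 12 0 true)) (.leaf [5] 5 0 false))) (.node (.node (.node (.leaf [0] 0 1 false) (.leaf [9, 2, 8, 6, 2] 35 1 false)) (.leaf [7, 4, 9] 12 0 false)) (.node (.node (.leaf [3] 2 0 false) (.leaf [8] 8 1 false)) (.leaf [5] 5 0 false)))) (.node (.node (.node (.node (.leaf [1] 0 0 false) (.leaf [6] 6 1 false)) (.leaf [7, 9, 3, 8, 6] 35 5 true)) (.node (.node (.leaf [9, 3, 0, 3, 5] 36 0 false) (.leaf [9] 8 0 false)) (.leaf [9, 7, 5, 6, 8] 21 4 false))) (.node (.node (.node (.leaf [9, 7, 0, 4] 31 2 false) (.leaf [6] 6 1 false)) (.leaf [5, 4, 5] 13 0 false)) (.node (.node (.leaf [2] 2 1 false) (.leaf [0, 9, 0] 30 1 false))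 (.leaf [0, 3, 4, 2] 34 2 true))))))
noncomputable def r1 : TC.WTr := (.node (.node (.node (.node (.node (.node (.leaf [9, 0, 9] 30 0 false) (.leaf [7] 6 0 false)) (.node (.leaf [3, 3, 3] 23 0 true) (.leaf [7, 0, 4, 1] 31 3 false))) (.node (.node (.leaf [0] 0 1 false) (.leaf [1, 8, 1] 30 0 true)) (.leaf [4] 4 0 false))) (.node (.node (.node (.leaf [1] 0 0 false) (.leaf [3, 4, 2, 1] 34 2 false)) (.leaf [1, 9, 7, 0] 31 1 false)) (.node (.node (.leaf [3] 2 0 false) (.leaf [9] 8 0 false)) (.leaf [5] 5 0 false)))) (.node (.node (.node (.node (.leaf [1] 0 0 false) (.leaf [7] 6 0 false)) (.leaf [0, 3, 1, 3, 1, 2, 1, 5] 25 1 true)) (.node (.node (.leaf [2, 2, 2] 23 0 false) (.leaf [9] 8 0 false)) (.leaf [7, 5, 7, 5, 7] 18 1 true))) (.node (.node (.node (.leaf [2, 2, 7] 26 0 false) (.leaf [6] 6 1 false)) (.leaf [7, 4, 7, 4, 7] 15 1 true)) (.node (.node (.leaf [3] 2 0 false) (.leaf [9, 9] 10 0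 true)) (.leaf [3, 3, 0] 26 0 true))))) (.node (.node (.node (.node (.node (.leaf [6, 5, 7, 4, 1, 5] 32 2 false) (.leaf [7] 6 0 false)) (.node (.leaf [3, 0, 6] 26 1 true) (.leaf [8] 8 1 false))) (.node (.node (.leaf [0] 0 1 false) (.leaf [6, 2, 7, 9, 2] 35 4 false)) (.leaf [1, 7, 5, 6, 4, 0] 33 1 false))) (.node (.node (.node (.leaf [1, 1] 22 0 true) (.leaf [5, 6, 4, 0, 5, 1] 33 3 false)) (.leaf [2, 0, 3, 3, 1, 2] 24 0 true)) (.node (.node (.leaf [3] 2 0 false) (.leaf [4, 7, 4] 12 3 false)) (.leaf [5] 5 0 false)))) (.node (.node (.node (.node (.leaf [1] 0 0 false) (.leaf [1, 2, 2] 26 3 false)) (.leaf [0, 2, 0, 2, 1, 2, 5, 0] 25 1 false)) (.node (.node (.leaf [2, 7, 1] 26 1 false) (.leaf [9] 8 0 false)) (.leaf [6, 8, 5, 9, 7] 21 1 false))) (.node (.node (.node (.leaf [5, 3, 0, 3, 1, 3, 1, 2] 25 8 true) (.leaf [6] 6 1 false)) (.leaf [9, 4, 7] 12 2 false)) (.node (.node (.leaf [0, 6, 3]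 26 2 true) (.leaf [3, 8, 6, 3, 7] 35 1 true)) (.leaf [5, 6, 5, 6, 5] 18 1 false))))))
noncomputable def tS : Tr := (.leaf (nat_lit 0xffc3b3d79b10b95d875e63ef7ff5d485fe2db02f1db5e2b493ff65bcd3b1e2d4b452058a917fdc3259229a72fb5f4a45affff96c30e18b521d05d88c51c3ffc7cdaf7650c31d005b735e7ff145ca4179505ebfce65b0c7fd781767452f4ff22a067ce2ff900e6590bc362872d1900e3ff934adf50e0bac6a4d89ebfbff16670fcdf23569c0b8440bffd46d4569f276da6d9c82e59ffad56c7a0aa4d267d5329d77ff5eb6988e8279f126156a1dbfed56c139fe4d3385526ff267fc6e5b4a2b46c92150006a5bff8d128332c8c8fa00290c461ff538a4ca93151e8ce4014803fe3e538bcf429148b85a001f7fc00000000000000c05c2c15))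
noncomputable def tJ : Tr := (.leaf (nat_lit 0x506063d6920360202e572034506060e670031000011160e2803d40024001501000d0025400423000201d803e4200400060202e300030505050e0800000703001501e1000214003e060002c352020201000043c4030030003c000200000001b0030030000b10000111022001b1002001100b000aaaaaa0000))
noncomputable def tQ : Tr := (.leaf (nat_lit 0x0))
noncomputable def tR : TC.WTr := (.node r0 r1)
def hl : List ℕ := [4, 5, 6, 7, 7, 6, 8, 9, 9, 8]
def B : List (List ℕ) := [[0, 1], [1, 0], [2, 3], [3, 2], [4, 4], [5, 5], [6, 7], [7, 6], [8, 9], [9, 8], [8, 8, 8], [6, 6, 6], [4, 7, 4, 9], [4, 5, 4, 5], [4, 5, 4, 5], [4, 6, 4, 6, 4, 6], [4, 6, 4, 7, 4, 6, 4, 7], [4, 7, 4, 7, 4, 7], [5, 6, 5, 6, 5, 6], [5, 6, 5, 7, 5, 6, 5, 7], [5, 7, 5, 7, 5, 7], [7, 5, 6, 8, 5, 9], [0, 0, 0], [2, 2, 2, 2], [3, 0, 2, 2, 1, 3, 4], [0, 3, 0, 2, 0, 2, 1, 2, 5], [1, 2, 2, 7], [0, 2, 0, 2, 0, 2, 0, 2, 0, 2], [0, 2, 1, 3,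 0, 2, 1, 3, 0, 2, 1, 3, 0, 2, 1, 3, 0, 2, 1, 3], [0, 3, 0, 3, 0, 3, 0, 3, 0, 3], [0, 9, 0, 9], [0, 4, 1, 9, 7], [1, 5, 0, 6, 5, 7, 4], [0, 5, 1, 7, 5, 6, 4], [2, 1, 7, 3, 4], [2, 7, 9, 2, 8, 6], [2, 9, 3, 0, 3, 5]]
def subs : List (List ℕ) := [[4], [5], [6], [7], [8], [9]]
def ex : List (List ℕ) := []
def inv (x : ℕ) : ℕ := [1, 0, 3, 2, 4, 5, 7, 6, 9, 8].getD x 0
noncomputable def rS : ℕ → ℕ := rowOf tS (nat_lit 7) (nat_lit 127) (nat_lit 99) (nat_lit 633825300114114700748351602687)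
noncomputable def rJ : ℕ → ℕ := rowOf tJ (nat_lit 7) (nat_lit 127) (nat_lit 48) (nat_lit 281474976710655)
noncomputable def C : TC.Cfg where
  S := look rS (nat_lit 9) (nat_lit 511)
  J := look rJ (nat_lit 4) (nat_lit 15)
  Q := lookQ tQ (nat_lit 7) (nat_lit 1) (nat_lit 1)
  R := tR.get
  hl := fun x => hl.contains x
  n := (nat_lit 20)
  M := (nat_lit 20)
  top := (nat_lit 420)
  nl := (nat_lit 10)
  need := (nat_lit 10)
  nr := (nat_lit 10)
theorem k0 : TC.chkRange C 0 1 = true := by decide +kernel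
theorem rows0 : ∀ c < (0 + 1) * 64, c < C.M → TC.chkRow C c = true :=
  TC.rows_step (TC.rows_zero C) k0
theorem main {G : Type*} [Group G] (g : ℕ → G) (hB : ∀ r ∈ B, ev g r = 1) (H : Subgroup G)
    (hH : ∀ w ∈ subs, ev g w ∈ H) :
    H.relIndex (Subgroup.closure (g '' {x | x < 10})) ≠ 0 ∧
      H.relIndex (Subgroup.closure (g '' {x | x < 10})) ≤ 20 :=
  TC.index_le C B subs ex inv hl tR.hint rfl (by decide +kernel) (by decide +kernel)
    (TC.rows_done rows0 (by decide +kernel)) g hB H hH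
end H0.TCM233
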